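import Groth.Agent.CartierOpLib.Local

/-!
# The inverse Cartier operator in degree one
-/

set_option autoImplicit false
set_option linter.style.haveILetI false

universe u

namespace CartierOpLib

variable (p : ℕ) [hp : Fact p.Prime] (A B : Type u) [CommRing A] [CommRing B] [Algebra A B] [CharP B p]

/-- One-forms with `B` acting through Frobenius. -/
@[nolint unusedArguments]
def F (_ : ℕ) (A B : Type u) [CommRing A] [CommRing B] [Algebra A B] : Type u := Ω[B⁄A]

noncomputable instance : AddCommGroup (F p A B) := inferInstanceAs (AddCommGroup (Ω[B⁄A]))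

/-- the identity. -/
noncomputable def toF : Ω[B⁄A] ≃+ F p A B := AddEquiv.refl _

noncomputable instance : Module B (F p A B) :=
  letI : Module B (F p A B) := inferInstanceAs (Module B (Ω[B⁄A]))
  Module.compHom (F p A B) (frobenius B p)

theorem smul_toF (g : B) (x : Ω[B⁄A]) : g • toF p A B x = toF p A B (g ^ p • x) := rfl

/-- exact forms. -/
noncomputable def exactF : Submodule B (F p A B) where
  carrier := Set.range fun b => toF p A B (KaehlerDifferential.D A B b)
  zero_mem' := ⟨0, by simp⟩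
  add_mem' := by rintro _ _ ⟨a, rfl⟩ ⟨b, rfl⟩; exact ⟨a + b, by simp⟩
  smul_mem' := by
    rintro g _ ⟨b, rfl⟩
    refine ⟨g ^ p * b, ?_⟩
    show toF p A B (KaehlerDifferential.D A B (g ^ p * b)) = g • toF p A B (KaehlerDifferential.D A B b)
    rw [smul_toF, Derivation.leibniz, Derivation.leibniz_pow, ← Nat.cast_smul_eq_nsmul B, CharP.cast_eq_zero,
      zero_smul, smul_zero, add_zero]

/-- forms modulo exact forms. -/
abbrev Q : Type u := F p A B ⧸ exactF p A B

/-- the class of a form. -/
noncomputable def mk : Ω[B⁄A] →+ Q p A B :=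
  (exactF p A B).mkQ.toAddMonoidHom.comp (toF p A B).toAddMonoidHom

theorem mk_pow_smul (g : B) (x : Ω[B⁄A]) : mk p A B (g ^ p • x) = g • mk p A B x := rfl

theorem mk_surjective : Function.Surjective (mk p A B) :=
  (Submodule.mkQ_surjective _).comp (toF p A B).surjective

theorem mk_eq_zero {x : Ω[B⁄A]} : mk p A B x = 0 ↔ ∃ b, KaehlerDifferential.D A B b = x := by
  rw [show mk p A B x = Submodule.Quotient.mk (toF p A B x) from rfl, Submodule.Quotient.mk_eq_zero]
  exact ⟨fun ⟨b, hb⟩ => ⟨b, (toF p A B).injective hb⟩, fun ⟨b, hb⟩ => ⟨b, congrArg (toF p A B) hb⟩⟩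

noncomputable instance : Module A (F p A B) := Module.compHom (F p A B) (algebraMap A B)
noncomputable instance : IsScalarTower A B (F p A B) := ⟨fun a b x => by
  show (a • b) • x = algebraMap A B a • (b • x)
  rw [Algebra.smul_def, mul_smul]⟩

/-- `b ↦ [b^(p-1) db]`. -/
noncomputable def δ : Derivation A B (Q p A B) :=
  Derivation.mk'
    { toFun := fun b => mk p A B (b ^ (p - 1) • KaehlerDifferential.D A B b)
      map_add' := fun b c => by
        rw [← sub_eq_zero, ← map_add, ← map_sub, mk_eq_zero]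
        let w : ℕ → B := fun k => ((p.choose k / p : ℕ) : B)
        refine ⟨∑ k ∈ Finset.Ico 1 p, w k * (b ^ k * c ^ (p - k)), ?_⟩
        have hdvd : ∀ k ∈ Finset.Ico 1 p, p * (p.choose k / p) = p.choose k := fun k hk =>
          Nat.mul_div_cancel' (hp.out.dvd_choose_self (by have := (Finset.mem_Ico.1 hk).1; omega)
            (Finset.mem_Ico.1 hk).2)
        have hk1 : ∀ k ∈ Finset.Ico 1 p, w k * (k : B) = ((p - 1).choose (k - 1) : ℕ) := fun k hk => by
          obtain ⟨h1, h2⟩ := Finset.mem_Ico.1 hk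
          rw [← Nat.cast_mul]
          congr 1
          refine Nat.eq_of_mul_eq_mul_left hp.out.pos ?_
          rw [← mul_assoc, hdvd k hk]
          have := Nat.add_one_mul_choose_eq (p - 1) (k - 1)
          rw [show p - 1 + 1 = p by omega, show k - 1 + 1 = k by omega] at this
          exact this.symm
        have hk2 : ∀ k ∈ Finset.Ico 1 p, w k * ((p - k : ℕ) : B) = ((p - 1).choose k : ℕ) := fun k hk => by
          obtain ⟨h1, h2⟩ := Finset.mem_Ico.1 hk
          rw [← Nat.cast_mul]
          congr 1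
          refine Nat.eq_of_mul_eq_mul_left hp.out.pos ?_
          rw [← mul_assoc, hdvd k hk]
          have := Nat.choose_mul_succ_eq (p - 1) k
          rw [show p - 1 + 1 = p by omega] at this
          rw [← this, mul_comm]
        rw [map_sum]
        have hterm : ∀ k ∈ Finset.Ico 1 p,
            KaehlerDifferential.D A B (w k * (b ^ k * c ^ (p - k))) =
              (((p - 1).choose (k - 1) : B) * (b ^ (k - 1) * c ^ (p - k))) • KaehlerDifferential.D A B b +
              (((p - 1).choose k : B) * (b ^ k * c ^ (p - k - 1))) • KaehlerDifferential.D A B c := by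
          intro k hk
          rw [Derivation.leibniz, Derivation.map_natCast, smul_zero, add_zero, Derivation.leibniz,
            Derivation.leibniz_pow, Derivation.leibniz_pow, ← Nat.cast_smul_eq_nsmul B, ← Nat.cast_smul_eq_nsmul B,
            ← hk1 k hk, ← hk2 k hk]
          simp only [smul_add, smul_smul]
          rw [add_comm]
          congr 2 <;> ring
        rw [Finset.sum_congr rfl hterm, Finset.sum_add_distrib, ← Finset.sum_smul, ← Finset.sum_smul,
          map_add (KaehlerDifferential.D A B)]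
        have hpow := add_pow b c (p - 1)
        rw [show p - 1 + 1 = p by have := hp.out.pos; omega] at hpow
        have e2 : (b + c) ^ (p - 1) = c ^ (p - 1) +
            ∑ k ∈ Finset.Ico 1 p, ((p - 1).choose k : B) * (b ^ k * c ^ (p - k - 1)) := by
          rw [hpow, Finset.range_eq_Ico, Finset.sum_eq_sum_Ico_succ_bot hp.out.pos]
          congr 1
          · simp
          · refine Finset.sum_congr rfl fun k hk => ?_
            rw [show p - k - 1 = p - 1 - k by omega]; ring
        have e1 : (b + c) ^ (p - 1) = b ^ (p - 1) +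
            ∑ k ∈ Finset.Ico 1 p, ((p - 1).choose (k - 1) : B) * (b ^ (k - 1) * c ^ (p - k)) := by
          obtain ⟨q, hq⟩ : ∃ q, p = q + 1 := ⟨p - 1, by have := hp.out.pos; omega⟩
          rw [add_pow b c (p - 1), hq, Nat.add_sub_cancel, Finset.sum_range_succ, add_comm]
          congr 1
          · simp
          · rw [Finset.sum_Ico_eq_sum_range, Nat.add_sub_cancel]
            refine Finset.sum_congr rfl fun k hk => ?_
            rw [Nat.add_sub_cancel_left, show q + 1 - (1 + k) = q - k by omega]; ring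
        rw [← sub_eq_iff_eq_add'.2 e1, ← sub_eq_iff_eq_add'.2 e2, smul_add, sub_smul, sub_smul]
        abel
      map_smul' := fun a b => by
        simp only [RingHom.id_apply]
        rw [Derivation.map_smul, ← IsScalarTower.algebraMap_smul B a (KaehlerDifferential.D A B b),
          ← IsScalarTower.algebraMap_smul B a (mk p A B _), ← mk_pow_smul, smul_smul, smul_smul,
          Algebra.smul_def, mul_pow]
        congr 2
        obtain ⟨q, hq⟩ : ∃ q, p = q + 1 := ⟨p - 1, by have := hp.out.pos; omega⟩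
        rw [hq, Nat.add_sub_cancel]
        ring }
    fun a b => by
      simp only [LinearMap.coe_mk, AddHom.coe_mk]
      rw [← mk_pow_smul, ← mk_pow_smul, ← map_add, Derivation.leibniz, smul_add, smul_smul, smul_smul,
        smul_smul, smul_smul]
      congr 3
      all_goals
        obtain ⟨q, hq⟩ : ∃ q, p = q + 1 := ⟨p - 1, by have := hp.out.pos; omega⟩
        rw [hq, Nat.add_sub_cancel]
        ring

theorem δ_apply (b : B) : δ p A B b = mk p A B (b ^ (p - 1) • KaehlerDifferential.D A B b) := rfl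

/-- the inverse Cartier operator. -/
noncomputable def γ : Ω[B⁄A] →ₗ[B] Q p A B := (δ p A B).liftKaehlerDifferential

theorem γ_smul_D (g b : B) :
    γ p A B (g • KaehlerDifferential.D A B b) =
      mk p A B (g ^ p • (b ^ (p - 1) • KaehlerDifferential.D A B b)) := by
  rw [map_smul, γ, Derivation.liftKaehlerDifferential_comp_D, δ_apply, mk_pow_smul]

omit hp in
/-- additive induction on one-forms. -/
theorem induction {P : Ω[B⁄A] → Prop} (h0 : P 0) (hadd : ∀ x y, P x → P y → P (x + y))
    (hgen : ∀ (g b : B), P (g • KaehlerDifferential.D A B b)) (x : Ω[B⁄A]) : P x := by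
  suffices ∀ g : B, P (g • x) by simpa using this 1
  have hx : x ∈ Submodule.span B (Set.range (KaehlerDifferential.D A B)) := by
    rw [KaehlerDifferential.span_range_derivation]; exact Submodule.mem_top
  induction hx using Submodule.span_induction with
  | mem y hy => obtain ⟨b, rfl⟩ := hy; exact fun g => hgen g b
  | zero => intro g; rwa [smul_zero]
  | add y z _ _ hy hz => intro g; rw [smul_add]; exact hadd _ _ (hy g) (hz g)
  | smul r y _ hy => intro g; rw [smul_smul]; exact hy _

section loc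

variable {p A B} (C : Type u) [CommRing C] [Algebra A C] [Algebra B C] [IsScalarTower A B C] [CharP C p]

local notation "κ" => KaehlerDifferential.map A A B C

/-- compatibility of `γ` with maps of algebras. -/
theorem exists_rep_map (φ : Ω[B⁄A]) :
    ∃ ω : Ω[B⁄A], mk p A B ω = γ p A B φ ∧ mk p A C (κ ω) = γ p A C (κ φ) := by
  induction φ using induction with
  | h0 => exact ⟨0, by simp, by simp⟩
  | hadd x y hx hy =>
    obtain ⟨u, hu, hu'⟩ := hx
    obtain ⟨v, hv, hv'⟩ := hy
    exact ⟨u + v, by simp [hu, hv], by simp [hu', hv']⟩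
  | hgen g b =>
    refine ⟨g ^ p • (b ^ (p - 1) • KaehlerDifferential.D A B b), (γ_smul_D p A B g b).symm, ?_⟩
    rw [LinearMap.map_smul, LinearMap.map_smul, LinearMap.map_smul, KaehlerDifferential.map_D,
      ← IsScalarTower.algebraMap_smul C g (KaehlerDifferential.D A C (algebraMap B C b)), γ_smul_D,
      ← IsScalarTower.algebraMap_smul C (g ^ p),
      ← IsScalarTower.algebraMap_smul C (b ^ (p - 1)), map_pow, map_pow]

variable {n : ℕ} (P : PB p A C n)

theorem γ_eq (φ : Ω[C⁄A]) :
    γ p A C φ = mk p A C (∑ i, (P.coord i φ ^ p * P.x i ^ (p - 1)) • KaehlerDifferential.D A C (P.x i)) := by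
  conv_lhs => rw [← P.sum_coord φ]
  rw [map_sum, map_sum]
  exact Finset.sum_congr rfl fun i _ => by rw [γ_smul_D, smul_smul]

theorem coord_D_sum (a : Fin n → C) (j : Fin n) :
    P.coord j (∑ i, a i • KaehlerDifferential.D A C (P.x i)) = a j := by
  classical
  rw [map_sum, Finset.sum_eq_single j (fun i _ hi => by
      rw [map_smul, P.coord_D, P.pd_x, if_neg (Ne.symm hi), smul_zero]) (by simp),
    map_smul, P.coord_D, P.pd_x, if_pos rfl, smul_eq_mul, mul_one]

include P in
theorem γ_injective : Function.Injective (γ p A C) := by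
  refine (injective_iff_map_eq_zero _).2 fun φ hφ => ?_
  rw [γ_eq C P, mk_eq_zero] at hφ
  obtain ⟨b, hb⟩ := hφ
  have h := P.eq_zero_of_exact (fun i => P.coord i φ) b fun i => by
    rw [← P.coord_D, hb, coord_D_sum C P]
  rw [← P.sum_coord φ]
  exact Finset.sum_eq_zero fun i _ => by rw [h i, zero_smul]

theorem exists_preimage (ω : Ω[C⁄A]) (hω : ∀ i j, P.pd j (P.coord i ω) = P.pd i (P.coord j ω)) :
    ∃ φ, γ p A C φ = mk p A C ω := by
  obtain ⟨c, b, hcb⟩ := P.exists_decomp (fun i => P.coord i ω) hω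
  refine ⟨∑ i, c i • KaehlerDifferential.D A C (P.x i), ?_⟩
  rw [γ_eq C P, ← sub_eq_zero, ← map_sub, mk_eq_zero]
  refine ⟨-b, ?_⟩
  rw [map_neg, P.D_eq b]
  conv_rhs => arg 2; rw [← P.sum_coord ω]
  rw [← Finset.sum_sub_distrib, ← Finset.sum_neg_distrib]
  refine Finset.sum_congr rfl fun i _ => ?_
  rw [coord_D_sum C P, hcb, add_smul, sub_add_cancel_left]

/-- the two-form coordinate. -/
noncomputable def wedge (i j : Fin n) : (Ω[B⁄A]) [⋀^Fin 2]→ₗ[B] C where
  toFun v := P.coord i (κ (v 0)) * P.coord j (κ (v 1)) - P.coord j (κ (v 0)) * P.coord i (κ (v 1))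
  map_update_add' v l x y := by
    fin_cases l <;> simp <;> ring
  map_update_smul' v l r x := by
    fin_cases l <;> simp [Algebra.smul_def] <;> ring
  map_eq_zero_of_eq' v a b h hab := by
    fin_cases a <;> fin_cases b <;> simp_all <;> ring

/-- closed forms stay closed. -/
theorem closed_map (d1 : Ω[B⁄A] →+ ↥(⋀[B]^2 (Ω[B⁄A])))
    (hd1 : ∀ g b, d1 (g • KaehlerDifferential.D A B b) =
      exteriorPower.ιMulti B 2 ![KaehlerDifferential.D A B g, KaehlerDifferential.D A B b])
    (ω : Ω[B⁄A]) (hω : d1 ω = 0) (i j : Fin n) :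
    P.pd j (P.coord i (κ ω)) = P.pd i (P.coord j (κ ω)) := by
  have h : ∀ x, exteriorPower.alternatingMapLinearEquiv (wedge C P j i) (d1 x) =
      P.pd j (P.coord i (κ x)) - P.pd i (P.coord j (κ x)) := by
    intro x
    induction x using induction with
    | h0 => simp
    | hadd x y hx hy => simp only [map_add, hx, hy]; abel
    | hgen g b =>
      rw [hd1, exteriorPower.alternatingMapLinearEquiv_apply_ιMulti, LinearMap.map_smul,
        ← IsScalarTower.algebraMap_smul C g (κ _), LinearMap.map_smul (P.coord i), LinearMap.map_smul (P.coord j),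
        KaehlerDifferential.map_D,
        P.coord_D, P.coord_D]
      simp [wedge, P.coord_D, P.pd_comm j i (algebraMap B C b)]
      ring
  have := h ω
  rw [hω, map_zero] at this
  exact sub_eq_zero.1 this.symm

end loc

variable [CharP A p] [PerfectRing A p] [Algebra.Smooth A B]

theorem loc_data {f : B} [Algebra.IsStandardSmooth A (Localization.Away f)] [Nontrivial (Localization.Away f)] :
    ∃ (_ : CharP (Localization.Away f) p), ∃ n, Nonempty (PB p A (Localization.Away f) n) :=
  haveI := FrobEtaleLib.charP_of_algebra p A (Localization.Away f)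
  ⟨inferInstance, exists_pb p A _⟩

include p hp in
theorem cover : ∃ s : Set B, Ideal.span s = ⊤ ∧
    ∀ f ∈ s, Algebra.IsStandardSmooth A (Localization.Away f) ∧ Nontrivial (Localization.Away f) := by
  obtain ⟨s, hs, h⟩ := FrobEtaleLib.exists_cover p A B
  refine ⟨s, ?_, h⟩
  have h1 := congrArg (Ideal.map (FrobAlg.relFrob p A B)) hs
  rw [Ideal.map_span, Ideal.map_top] at h1
  refine top_le_iff.1 (h1 ▸ Ideal.span_le.2 ?_)
  rintro _ ⟨_, ⟨f, hf, rfl⟩, rfl⟩
  rw [FrobEtaleLib.relFrob_tmul, map_one, map_one, mul_one]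
  exact Ideal.pow_mem_of_mem _ (Ideal.subset_span hf) _ hp.out.pos

theorem γ_injective_smooth : Function.Injective (γ p A B) := by
  refine (injective_iff_map_eq_zero _).2 fun φ hφ => ?_
  obtain ⟨s, hs, hs'⟩ := cover p A B
  suffices h : (LinearMap.toSpanSingleton B _ φ).ker = ⊤ by
    have : (1 : B) • φ = 0 := LinearMap.mem_ker.1 (h ▸ Submodule.mem_top : (1 : B) ∈ _)
    simpa using this
  refine Ideal.radical_eq_top.1 (top_le_iff.1 (hs ▸ Ideal.span_le.2 fun f hf => ?_))
  obtain ⟨h1, h2⟩ := hs' f hf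
  obtain ⟨_, n, ⟨P⟩⟩ := loc_data p A B (f := f)
  obtain ⟨ω, hω, hω'⟩ := exists_rep_map (Localization.Away f) (p := p) φ
  rw [hφ, mk_eq_zero] at hω
  obtain ⟨b, rfl⟩ := hω
  rw [KaehlerDifferential.map_D, (mk_eq_zero p A _).2 ⟨_, rfl⟩] at hω'
  have h0 : KaehlerDifferential.map A A B (Localization.Away f) φ = 0 :=
    γ_injective (Localization.Away f) P (by rw [map_zero]; exact hω'.symm)
  obtain ⟨⟨_, m, rfl⟩, hm⟩ := (IsLocalizedModule.eq_zero_iff (Submonoid.powers f)
    (KaehlerDifferential.map A A B (Localization.Away f))).1 h0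
  exact ⟨m, LinearMap.mem_ker.2 hm⟩

theorem exists_preimage_smooth (d1 : Ω[B⁄A] →+ ↥(⋀[B]^2 (Ω[B⁄A])))
    (hd1 : ∀ g b, d1 (g • KaehlerDifferential.D A B b) =
      exteriorPower.ιMulti B 2 ![KaehlerDifferential.D A B g, KaehlerDifferential.D A B b])
    (ω : Ω[B⁄A]) (hω : d1 ω = 0) : ∃ φ, γ p A B φ = mk p A B ω := by
  obtain ⟨s, hs, hs'⟩ := cover p A B
  let J : Ideal B := (LinearMap.range (γ p A B)).comap (LinearMap.toSpanSingleton B _ (mk p A B ω))
  suffices h : J = ⊤ by
    have h1 : (1 : B) • mk p A B ω ∈ LinearMap.range (γ p A B) := (h ▸ Submodule.mem_top : (1 : B) ∈ J)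
    rwa [one_smul] at h1
  refine Ideal.radical_eq_top.1 (top_le_iff.1 (hs ▸ Ideal.span_le.2 fun f hf => ?_))
  obtain ⟨h1, h2⟩ := hs' f hf
  let C := Localization.Away f
  obtain ⟨_, n, ⟨P⟩⟩ := loc_data p A B (f := f)
  let k := KaehlerDifferential.map A A B C
  obtain ⟨φ', hφ'⟩ := exists_preimage C P (k ω) (closed_map C P d1 hd1 ω hω)
  obtain ⟨⟨φ, ⟨_, N, rfl⟩⟩, hN⟩ := IsLocalizedModule.surj (Submonoid.powers f) k φ'
  obtain ⟨w, hw, hw'⟩ := exists_rep_map C (p := p) φ
  have hN' : k φ = f ^ N • φ' := hN.symm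
  have hz : mk p A C (k ((f ^ N) ^ p • ω - w)) = 0 := by
    rw [map_sub, map_sub, hw', hN', ← IsScalarTower.algebraMap_smul C (f ^ N) φ',
      LinearMap.map_smul (γ p A C), hφ', ← mk_pow_smul, ← map_pow,
      IsScalarTower.algebraMap_smul, LinearMap.map_smul, sub_self]
  rw [mk_eq_zero] at hz
  obtain ⟨b', hb'⟩ := hz
  obtain ⟨⟨b, _, N', rfl⟩, hb⟩ := IsLocalization.surj (Submonoid.powers f) b'
  -- clear the denominator by a `p`-th power
  have hexact : k ((f ^ N') ^ p • ((f ^ N) ^ p • ω - w) -
      KaehlerDifferential.D A B (f ^ (N' * (p - 1)) * b)) = 0 := by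
    have h3 : algebraMap B C (f ^ (N' * (p - 1)) * b) = algebraMap B C ((f ^ N') ^ p) * b' := by
      rw [map_mul, ← hb, mul_left_comm, ← map_mul, mul_comm b']
      congr 2
      simp only
      rw [← pow_mul, ← pow_add]
      congr 1
      obtain ⟨q, rfl⟩ : ∃ q, p = q + 1 := ⟨p - 1, by have := hp.out.pos; omega⟩
      rw [Nat.add_sub_cancel]; ring
    rw [map_sub, LinearMap.map_smul, KaehlerDifferential.map_D, ← hb', h3, Derivation.leibniz, map_pow,
      Derivation.leibniz_pow, ← Nat.cast_smul_eq_nsmul C, CharP.cast_eq_zero, zero_smul, smul_zero, add_zero,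
      ← IsScalarTower.algebraMap_smul C ((f ^ N') ^ p), map_pow, sub_self]
  obtain ⟨⟨_, m, rfl⟩, hm⟩ := (IsLocalizedModule.eq_zero_iff (Submonoid.powers f) k).1 hexact
  refine ⟨m + (N' + N), ?_⟩
  show f ^ (m + (N' + N)) • mk p A B ω ∈ LinearMap.range (γ p A B)
  refine ⟨f ^ (m + N') • φ, ?_⟩
  rw [map_smul, ← hw, ← mk_pow_smul, ← mk_pow_smul, ← sub_eq_zero, ← map_sub, mk_eq_zero]
  refine ⟨-((f ^ m) ^ p * (f ^ (N' * (p - 1)) * b)), ?_⟩
  have hm' : f ^ m • ((f ^ N') ^ p • ((f ^ N) ^ p • ω - w)) =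
      f ^ m • KaehlerDifferential.D A B (f ^ (N' * (p - 1)) * b) := by
    rw [← sub_eq_zero, ← smul_sub]; exact hm
  have hm2 : (f ^ m) ^ p • ((f ^ N') ^ p • ((f ^ N) ^ p • ω - w)) =
      (f ^ m) ^ p • KaehlerDifferential.D A B (f ^ (N' * (p - 1)) * b) := by
    obtain ⟨q, hq⟩ : ∃ q, p = q + 1 := ⟨p - 1, by have := hp.out.pos; omega⟩
    have hs : (f ^ m) ^ p = (f ^ m) ^ q * f ^ m := by rw [hq, pow_succ]
    rw [hs, mul_smul, mul_smul, hm']
  rw [map_neg, Derivation.leibniz, Derivation.leibniz_pow, ← Nat.cast_smul_eq_nsmul B, CharP.cast_eq_zero,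
    zero_smul, smul_zero, add_zero, ← hm2]
  simp only [smul_sub, smul_smul, ← mul_pow, ← pow_add, add_assoc]
  abel

end CartierOpLib
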