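import Groth.Agent.FrobEtaleLib.Smooth

/-!
# The degree one Cartier lemma for an algebra with a `p`-basis
-/

set_option autoImplicit false
set_option linter.style.haveILetI false

universe u

namespace CartierOpLib

variable {p : ℕ} [hp : Fact p.Prime] {A C : Type u} [CommRing A] [CommRing C] [Algebra A C] [CharP C p] {n : ℕ}

local notation "E" => Fin n → Fin p

/-- the reduced monomials. -/
def M (x : Fin n → C) (e : Fin n → Fin p) : C := ∏ i, x i ^ (e i : ℕ)

variable (p) in
/-- an inverse of a natural number prime to `p`. -/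
def inv (C : Type u) [CommRing C] [CharP C p] (k : ℕ) : C := ZMod.castHom dvd_rfl C ((k : ZMod p)⁻¹)

theorem inv_mul (k : ℕ) (h0 : 0 < k) (hk : k < p) : inv p C k * (k : C) = 1 := by
  have h : (k : ZMod p) ≠ 0 := by
    rw [Ne, ZMod.natCast_eq_zero_iff]
    exact fun h => absurd (Nat.le_of_dvd h0 h) (not_le.2 hk)
  rw [inv, ← map_natCast (ZMod.castHom dvd_rfl C) k, ← map_mul, inv_mul_cancel₀ h, map_one]

theorem natCast_pow (k : ℕ) : (k : C) ^ p = k := by
  rw [← frobenius_def, map_natCast]

theorem der_pow_p (D : Derivation A C C) (b : C) : D (b ^ p) = 0 := by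
  rw [Derivation.leibniz_pow, ← Nat.cast_smul_eq_nsmul C, CharP.cast_eq_zero, zero_smul]

/-- A `p`-basis with its partial derivatives. -/
structure PB (p : ℕ) (A C : Type u) [CommRing A] [CommRing C] [Algebra A C] (n : ℕ) where
  /-- the coordinates. -/
  x : Fin n → C
  /-- the partial derivatives. -/
  pd : Fin n → Derivation A C C
  pd_x : ∀ i j, pd i (x j) = if i = j then 1 else 0
  pd_comm : ∀ i j b, pd i (pd j b) = pd j (pd i b)
  bij : Function.Bijective (fun c : (Fin n → Fin p) → C => ∑ e, c e ^ p * M x e)
  D_eq : ∀ b : C, KaehlerDifferential.D A C b = ∑ i, pd i b • KaehlerDifferential.D A C (x i)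
  coord : Fin n → (Ω[C⁄A] →ₗ[C] C)
  coord_D : ∀ i b, coord i (KaehlerDifferential.D A C b) = pd i b
  sum_coord : ∀ ω : Ω[C⁄A], ∑ i, coord i ω • KaehlerDifferential.D A C (x i) = ω

variable (P : PB p A C n)

/-- the coefficients along the reduced monomials. -/
noncomputable def PB.coef (b : C) : (Fin n → Fin p) → C := (Equiv.ofBijective _ P.bij).symm b

theorem PB.sum_coef (b : C) : ∑ e, P.coef b e ^ p * M P.x e = b :=
  (Equiv.ofBijective _ P.bij).apply_symm_apply b

theorem PB.coef_sum (c : (Fin n → Fin p) → C) : P.coef (∑ e, c e ^ p * M P.x e) = c :=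
  (Equiv.ofBijective _ P.bij).symm_apply_apply c

theorem pd_mul_pow (j : Fin n) (b : C) (e : E) :
    P.pd j (b ^ p * M P.x e) =
      b ^ p * ((e j : ℕ) : C) * (P.x j ^ ((e j : ℕ) - 1) * ∏ i ∈ Finset.univ.erase j, P.x i ^ (e i : ℕ)) := by
  classical
  have hrest : P.pd j (∏ i ∈ Finset.univ.erase j, P.x i ^ (e i : ℕ)) = 0 := by
    refine Finset.prod_induction _ (fun t => P.pd j t = 0) (fun a b ha hb => ?_) (Derivation.map_one_eq_zero _)
      fun i hi => ?_
    · rw [Derivation.leibniz, ha, hb, smul_zero, smul_zero, add_zero]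
    · rw [Derivation.leibniz_pow, P.pd_x, if_neg (Finset.ne_of_mem_erase hi).symm, smul_zero, smul_zero]
  rw [Derivation.leibniz, der_pow_p, smul_zero, add_zero, M,
    ← Finset.mul_prod_erase Finset.univ _ (Finset.mem_univ j), Derivation.leibniz, hrest, smul_zero,
    zero_add, Derivation.leibniz_pow, P.pd_x, if_pos rfl]
  simp only [smul_eq_mul, nsmul_eq_mul, mul_one]
  ring

/-- raise the `j`-th exponent. -/
def up (j : Fin n) (e : E) (h : (e j : ℕ) + 1 < p) : E := Function.update e j ⟨(e j : ℕ) + 1, h⟩

/-- lower the `j`-th exponent. -/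
def down (j : Fin n) (e : E) : E := Function.update e j ⟨(e j : ℕ) - 1, lt_of_le_of_lt (Nat.sub_le _ _) (e j).2⟩

theorem coef_pd (j : Fin n) (b : C) (e : E) :
    P.coef (P.pd j b) e =
      if h : (e j : ℕ) + 1 < p then (((e j : ℕ) + 1 : ℕ) : C) * P.coef b (up j e h) else 0 := by
  classical
  let c : E → C := fun e =>
    if h : (e j : ℕ) + 1 < p then (((e j : ℕ) + 1 : ℕ) : C) * P.coef b (up j e h) else 0
  suffices hkey : P.pd j b = ∑ e, c e ^ p * M P.x e by rw [hkey, P.coef_sum]
  conv_lhs => rw [← P.sum_coef b, map_sum]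
  symm
  have hz : ∀ e : E, ¬ (e j : ℕ) + 1 < p → c e ^ p * M P.x e = 0 := fun e h => by
    simp only [c, dif_neg h, zero_pow hp.out.ne_zero, zero_mul]
  have hz' : ∀ e : E, (e j : ℕ) = 0 → P.pd j (P.coef b e ^ p * M P.x e) = 0 := fun e h => by
    rw [pd_mul_pow, h, Nat.cast_zero, mul_zero, zero_mul]
  rw [← Finset.sum_filter_of_ne (p := fun e : E => (e j : ℕ) + 1 < p) (fun e _ h => by
      by_contra hh; exact h (hz e hh)),
    ← Finset.sum_filter_of_ne (s := Finset.univ) (f := fun e => P.pd j (P.coef b e ^ p * M P.x e))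
      (p := fun e : E => (e j : ℕ) ≠ 0) (fun e _ h hh => h (hz' e hh))]
  refine Finset.sum_bij' (fun e he => up j e (Finset.mem_filter.1 he).2) (fun e _ => down j e)
    (fun e he => ?_) (fun e he => ?_) (fun e he => ?_) (fun e he => ?_) (fun e he => ?_)
  · simp [up]
  · simp only [Finset.mem_filter, Finset.mem_univ, true_and, down, Function.update_self] at he ⊢
    have := (e j).2
    omega
  · funext i
    by_cases hi : i = j
    · subst hi; ext; simp [up, down]
    · simp [up, down, Function.update_of_ne hi]
  · funext i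
    by_cases hi : i = j
    · subst hi
      ext
      simp only [Finset.mem_filter, Finset.mem_univ, true_and] at he
      simp [up, down]
      omega
    · simp [up, down, Function.update_of_ne hi]
  · have h := (Finset.mem_filter.1 he).2
    simp only [c, dif_pos h]
    rw [pd_mul_pow, mul_pow, natCast_pow]
    have h1 : ((up j e h) j : ℕ) = (e j : ℕ) + 1 := by simp [up]
    rw [h1, Nat.add_sub_cancel, M, ← Finset.mul_prod_erase Finset.univ _ (Finset.mem_univ j)]
    have h2 : ∏ i ∈ Finset.univ.erase j, P.x i ^ ((up j e h) i : ℕ) =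
        ∏ i ∈ Finset.univ.erase j, P.x i ^ (e i : ℕ) := Finset.prod_congr rfl fun i hi => by
      simp [up, Function.update_of_ne (Finset.ne_of_mem_erase hi)]
    rw [h2]; ring

/-- the exponent `p - 1` at `i`, `0` elsewhere. -/
def pure (i : Fin n) : E := fun j =>
  if j = i then ⟨p - 1, Nat.sub_lt hp.out.pos one_pos⟩ else ⟨0, hp.out.pos⟩

theorem M_pure (i : Fin n) : M P.x (pure (p := p) i) = P.x i ^ (p - 1) := by
  rw [M, Finset.prod_eq_single i (fun j _ hj => by simp [pure, hj]) (by simp)]
  simp [pure]

theorem coef_pure (c : C) (i : Fin n) (e : E) :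
    P.coef (c ^ p * P.x i ^ (p - 1)) e = if e = pure i then c else 0 := by
  classical
  have h : c ^ p * P.x i ^ (p - 1) = ∑ e' : E, (if e' = pure (p := p) i then c else 0) ^ p * M P.x e' := by
    rw [Finset.sum_eq_single (pure i) (fun e' _ he' => by simp [he', hp.out.ne_zero]) (by simp),
      if_pos rfl, M_pure]
  rw [h, P.coef_sum]

/-- No nonzero combination of the `xᵢ^(p-1) dxᵢ` with `p`-th power coefficients is exact. -/
theorem PB.eq_zero_of_exact (c : Fin n → C) (b : C)
    (h : ∀ i, P.pd i b = c i ^ p * P.x i ^ (p - 1)) : ∀ i, c i = 0 := by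
  intro i
  have h1 := coef_pd P i b (pure i)
  rw [h, coef_pure, if_pos rfl, dif_neg] at h1
  · exact h1
  · simp [pure]
    have := hp.out.pos
    omega

open Classical in
/-- A closed form is exact up to a combination of the `xᵢ^(p-1) dxᵢ`. -/
theorem PB.exists_decomp (a : Fin n → C) (hclosed : ∀ i j, P.pd j (a i) = P.pd i (a j)) :
    ∃ (c : Fin n → C) (b : C), ∀ i, a i = c i ^ p * P.x i ^ (p - 1) + P.pd i b := by
  let S : E → Finset (Fin n) := fun w => Finset.univ.filter fun j => (w j : ℕ) ≠ 0
  let H : E → C := fun w => if h : (S w).Nonempty then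
    inv p C (w ((S w).min' h) : ℕ) * P.coef (a ((S w).min' h)) (down ((S w).min' h) w) else 0
  refine ⟨fun i => P.coef (a i) (pure i), ∑ w, H w ^ p * M P.x w, fun i => ?_⟩
  have key : ∀ e : E, P.coef (a i) e =
      (if e = pure i then P.coef (a i) (pure i) else 0) + P.coef (P.pd i (∑ w, H w ^ p * M P.x w)) e := by
    intro e
    rw [coef_pd, P.coef_sum]
    by_cases he : (e i : ℕ) + 1 < p
    · have hne : e ≠ pure i := by
        rintro rfl
        simp [pure] at he
        omega
      rw [if_neg hne, zero_add, dif_pos he]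
      set w := up i e he with hw
      have hwi : (w i : ℕ) = (e i : ℕ) + 1 := by simp [hw, up]
      have hS : (S w).Nonempty := ⟨i, by simp only [S, Finset.mem_filter, Finset.mem_univ, true_and]; omega⟩
      simp only [H, dif_pos hS]
      set j := (S w).min' hS
      have hj : (w j : ℕ) ≠ 0 := (Finset.mem_filter.1 ((S w).min'_mem hS)).2
      by_cases hji : j = i
      · have hd : down j w = e := by
          rw [hji]
          funext l
          by_cases hl : l = i
          · subst hl; ext; simp [hw, up, down]
          · simp [hw, up, down, Function.update_of_ne hl]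
        rw [hd, hji, hwi, ← mul_assoc, mul_comm (((e i : ℕ) + 1 : ℕ) : C),
          inv_mul _ (Nat.succ_pos _) he, one_mul]
      · set e' : E := down j e with he'
        have hej : (e j : ℕ) = (w j : ℕ) := by simp [hw, up, Function.update_of_ne hji]
        have he'j : (e' j : ℕ) + 1 = (w j : ℕ) := by simp [he', down]; omega
        have he'i : (e' i : ℕ) = (e i : ℕ) := by simp [he', down, Function.update_of_ne (Ne.symm hji)]
        have h1 := coef_pd P j (a i) e'
        have h2 := coef_pd P i (a j) e'
        rw [hclosed i j, h2, dif_pos (by rw [he'i]; exact he), dif_pos (by rw [he'j]; exact (w j).2)] at h1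
        have hu1 : up j e' (by rw [he'j]; exact (w j).2) = e := by
          funext l
          by_cases hl : l = j
          · subst hl; ext; simp [he', up, down]; omega
          · simp [he', up, down, Function.update_of_ne hl]
        have hu2 : up i e' (by rw [he'i]; exact he) = down j w := by
          funext l
          by_cases hl : l = j
          · subst hl
            ext
            simp [hw, he', up, down, Function.update_of_ne hji]
          · by_cases hli : l = i
            · subst hli; ext; simp [hw, he', up, down, Function.update_of_ne hl]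
            · simp [hw, he', up, down, Function.update_of_ne hl, Function.update_of_ne hli]
        rw [hu1, hu2, he'i, he'j] at h1
        calc P.coef (a i) e = inv p C (w j : ℕ) * (((w j : ℕ) : C) * P.coef (a i) e) := by
              rw [← mul_assoc, inv_mul _ (Nat.pos_of_ne_zero hj) (w j).2, one_mul]
          _ = _ := by rw [← h1]; ring
    · rw [dif_neg he, add_zero]
      by_cases hne : e = pure i
      · rw [if_pos hne, hne]
      rw [if_neg hne]
      obtain ⟨j, hji, hj⟩ : ∃ j, j ≠ i ∧ (e j : ℕ) ≠ 0 := by
        by_contra hno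
        push Not at hno
        refine hne (funext fun l => ?_)
        by_cases hl : l = i
        · subst hl
          ext
          simp [pure]
          have := (e l).2
          omega
        · ext; simp [pure, hl, hno l hl]
      set e' : E := down j e with he'
      have he'j : (e' j : ℕ) + 1 = (e j : ℕ) := by simp [he', down]; omega
      have he'i : (e' i : ℕ) = (e i : ℕ) := by simp [he', down, Function.update_of_ne (Ne.symm hji)]
      have h1 := coef_pd P j (a i) e'
      have h2 := coef_pd P i (a j) e'
      rw [hclosed i j, h2, dif_neg (by rw [he'i]; exact he), dif_pos (by rw [he'j]; exact (e j).2)] at h1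
      have hu1 : up j e' (by rw [he'j]; exact (e j).2) = e := by
        funext l
        by_cases hl : l = j
        · subst hl; ext; simp [he', up, down]; omega
        · simp [he', up, down, Function.update_of_ne hl]
      rw [hu1, he'j] at h1
      calc P.coef (a i) e = inv p C (e j : ℕ) * (((e j : ℕ) : C) * P.coef (a i) e) := by
            rw [← mul_assoc, inv_mul _ (Nat.pos_of_ne_zero hj) (e j).2, one_mul]
        _ = _ := by rw [← h1, mul_zero]
  have hsum : ∀ c d : E → C, ∑ e, (c e + d e) ^ p * M P.x e =
      ∑ e, c e ^ p * M P.x e + ∑ e, d e ^ p * M P.x e := fun c d => by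
    rw [← Finset.sum_add_distrib]
    exact Finset.sum_congr rfl fun e _ => by rw [add_pow_char, add_mul]
  calc a i = ∑ e, P.coef (a i) e ^ p * M P.x e := (P.sum_coef _).symm
    _ = ∑ e, ((if e = pure i then P.coef (a i) (pure i) else 0) +
          P.coef (P.pd i (∑ w, H w ^ p * M P.x w)) e) ^ p * M P.x e := by simp_rw [← key]
    _ = _ := by
      rw [hsum, P.sum_coef, Finset.sum_eq_single (pure i) (fun e _ he => by simp [he, hp.out.ne_zero]) (by simp),
        if_pos rfl, M_pure]

variable (p) in
open scoped TensorProduct in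
/-- A standard smooth algebra over a perfect ring has a `p`-basis. -/
theorem exists_pb (A C : Type u) [CommRing A] [CharP A p] [PerfectRing A p] [CommRing C] [Algebra A C]
    [CharP C p] [Algebra.IsStandardSmooth A C] : ∃ n : ℕ, Nonempty (PB p A C n) := by
  classical
  obtain ⟨n, g, hgC, hg⟩ := RingHom.IsStandardSmooth.exists_etale_mvPolynomial
    (RingHom.isStandardSmooth_algebraMap.mpr (inferInstance : Algebra.IsStandardSmooth A C))
  refine ⟨n, ?_⟩
  let ga : MvPolynomial (Fin n) A →ₐ[A] C := { g with commutes' := fun a => RingHom.congr_fun hgC a }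
  let x : Fin n → C := fun i => ga (MvPolynomial.X i)
  letI algP : Algebra (MvPolynomial (Fin n) A) C := ga.toRingHom.toAlgebra
  haveI : Algebra.Etale (MvPolynomial (Fin n) A) C := hg
  haveI : IsScalarTower A (MvPolynomial (Fin n) A) C := IsScalarTower.of_algebraMap_eq fun a => (ga.commutes a).symm
  let bΩ := ((KaehlerDifferential.mvPolynomialBasis A (Fin n)).baseChange C).map
    (KaehlerDifferential.tensorKaehlerEquivOfFormallyEtale A (MvPolynomial (Fin n) A) C)
  have hbΩ : ∀ i, bΩ i = KaehlerDifferential.D A C (x i) := fun i => by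
    simp only [bΩ, Module.Basis.map_apply, Module.Basis.baseChange_apply,
      KaehlerDifferential.mvPolynomialBasis_apply, KaehlerDifferential.tensorKaehlerEquivOfFormallyEtale_apply]
    rw [KaehlerDifferential.mapBaseChange_tmul, KaehlerDifferential.map_D, one_smul]
    rfl
  let pd : Fin n → Derivation A C C := fun i => (bΩ.coord i).compDer (KaehlerDifferential.D A C)
  have hpd : ∀ i j, pd i (x j) = if i = j then 1 else 0 := fun i j => by
    show bΩ.coord i (KaehlerDifferential.D A C (x j)) = _
    rw [← hbΩ, Module.Basis.coord_apply, Module.Basis.repr_self, Finsupp.single_apply]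
    simp only [eq_comm]
  have hsum : ∀ ω : Ω[C⁄A], ∑ i, bΩ.coord i ω • KaehlerDifferential.D A C (x i) = ω := fun ω => by
    conv_rhs => rw [← bΩ.sum_repr ω]
    exact Finset.sum_congr rfl fun i _ => by rw [hbΩ]; rfl
  have hder : ∀ δ : Derivation A C C, (∀ k, δ (x k) = 0) → ∀ b, δ b = 0 := by
    intro δ hδ b
    have h0 : δ.liftKaehlerDifferential = 0 := bΩ.ext fun k => by
      rw [hbΩ, Derivation.liftKaehlerDifferential_comp_D, hδ]; rfl
    rw [← δ.liftKaehlerDifferential_comp_D b, h0]; rfl
  have hcomm : ∀ i j b, pd i (pd j b) = pd j (pd i b) := by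
    intro i j b
    have h := hder ⁅pd i, pd j⁆ (fun k => by
      rw [Derivation.commutator_apply, hpd, hpd]
      split_ifs <;> simp) b
    rw [Derivation.commutator_apply, sub_eq_zero] at h
    exact h
  -- the coefficients
  letI algF : Algebra (FrobAlg.BaseChange p A C) C := (FrobAlg.relFrob p A C).toAlgebra
  obtain ⟨b, hb⟩ := FrobEtaleLib.exists_basis_mono p ga hg
  let θ : C → FrobAlg.BaseChange p A C := fun c => c ⊗ₜ[A] 1
  have hθ : ∀ c, FrobAlg.relFrob p A C (θ c) = c ^ p := fun c => by
    rw [FrobEtaleLib.relFrob_tmul, map_one, map_one, mul_one]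
  have hθsurj : Function.Surjective θ := by
    intro z
    induction z using TensorProduct.induction_on with
    | zero => exact ⟨0, TensorProduct.zero_tmul _ _⟩
    | tmul c t =>
      obtain ⟨a, ha⟩ : ∃ a : A, FrobAlg.toTwist p A (a ^ p) = t := by
        obtain ⟨a, ha⟩ := (PerfectRing.bijective_frobenius (R := A) (p := p)).2 ((FrobAlg.toTwist p A).symm t)
        exact ⟨a, by simp only at ha; rw [ha, RingEquiv.apply_symm_apply]⟩
      refine ⟨c * algebraMap A C a, ?_⟩
      have h1 := congrArg (fun z => (c ⊗ₜ[A] (1 : FrobAlg.Twist p A)) * z) (FrobEtaleLib.tmul_one_pow p A C a)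
      simp only [Algebra.TensorProduct.tmul_mul_tmul, mul_one, one_mul, ha] at h1
      exact h1
    | add z w hz hw =>
      obtain ⟨c, rfl⟩ := hz
      obtain ⟨d, rfl⟩ := hw
      exact ⟨c + d, TensorProduct.add_tmul _ _ _⟩
  have hθinj : Function.Injective θ := by
    let L : A →ₗ[A] FrobAlg.Twist p A := LinearMap.toSpanSingleton A _ 1
    have hL : Function.Bijective L := by
      have : ∀ a, L a = FrobAlg.toTwist p A (a ^ p) := fun a => by
        rw [LinearMap.toSpanSingleton_apply, ← Algebra.algebraMap_eq_smul_one, FrobAlg.algebraMap_twist]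
      rw [show (⇑L) = ⇑(FrobAlg.toTwist p A) ∘ ⇑(frobenius A p) from funext this]
      exact (FrobAlg.toTwist p A).bijective.comp PerfectRing.bijective_frobenius
    let Le := LinearEquiv.ofBijective L hL
    have h : ∀ c, θ c = TensorProduct.congr (LinearEquiv.refl A C) Le ((TensorProduct.rid A C).symm c) := fun c => by
      show c ⊗ₜ[A] (1 : FrobAlg.Twist p A) = TensorProduct.congr (LinearEquiv.refl A C) Le (c ⊗ₜ[A] 1)
      rw [TensorProduct.congr_tmul]
      simp [Le, L]
    intro c d hcd
    rw [h, h] at hcd
    exact (TensorProduct.rid A C).symm.injective ((TensorProduct.congr _ Le).injective hcd)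
  have hM : ∀ e, b e = M x e := fun e => by
    rw [hb, FrobEtaleLib.mono, MvPolynomial.monomial_eq, map_one, one_mul,
      Finsupp.prod_fintype _ _ (fun i => pow_zero _), map_prod, M]
    exact Finset.prod_congr rfl fun i _ => by rw [map_pow]; rfl
  have hrepr : ∀ c : (Fin n → Fin p) → C, ∑ e, c e ^ p * M x e = b.equivFun.symm (fun e => θ (c e)) := by
    intro c
    rw [Module.Basis.equivFun_symm_apply]
    exact Finset.sum_congr rfl fun e => fun _ => by rw [Algebra.smul_def, hM]; exact congrArg (· * M x e) (hθ (c e)).symm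
  exact ⟨{ x := x, pd := pd, pd_x := hpd, pd_comm := hcomm
           bij := by
            rw [show (fun c : (Fin n → Fin p) → C => ∑ e, c e ^ p * M x e) =
              ⇑b.equivFun.symm ∘ fun c e => θ (c e) from funext hrepr]
            refine b.equivFun.symm.bijective.comp ⟨fun c d h => funext fun e => hθinj (congrFun h e), fun f => ?_⟩
            choose c hc using fun e => hθsurj (f e)
            exact ⟨c, funext hc⟩
           D_eq := fun b => (hsum (KaehlerDifferential.D A C b)).symm
           coord := fun i => bΩ.coord i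
           coord_D := fun i b => rfl
           sum_coord := hsum }⟩

end CartierOpLib
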